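import Mathlib
import Cfsg.Prelude.Def_Characters
import Cfsg.Agent.Characters.Core
import Cfsg.Agent.OddOrderCharacters.Clifford
set_option linter.all false

/-!
# Characters of norm two

A character of norm two is the sum of two distinct irreducible characters.
-/

set_option autoImplicit false

namespace Cfsg.Agent.H113.NormTwoChar

open Cfsg Cfsg.Agent.Characters.Core
open scoped ComplexConjugate

universe u

variable {G : Type u} [Group G] [Fintype G]

/-- A nonzero character has an irreducible constituent. -/
theorem exists_constituent {χ : G → ℂ} (hχ : IsCharacter G χ) (h0 : χ ≠ 0) :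
    ∃ ψ : G → ℂ, IsIrrCharacter G ψ ∧ classInner χ ψ ≠ 0 := by
  by_contra hno
  push Not at hno
  exact h0 (classFunction_eq_zero (isCharacter_isClassFunction hχ) hno)

/-- **A character of norm two is the sum of two distinct irreducible characters.** -/
theorem exists_add_of_norm_two {χ : G → ℂ} (hχ : IsCharacter G χ) (h : classInner χ χ = 2) :
    ∃ χ₁ χ₂ : G → ℂ, IsIrrCharacter G χ₁ ∧ IsIrrCharacter G χ₂ ∧ χ₁ ≠ χ₂ ∧ χ = χ₁ + χ₂ := by
  have h0 : χ ≠ 0 := by
    rintro rfl
    rw [classInner_zero_left] at h
    norm_num at h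
  obtain ⟨ψ, hψ, hne⟩ := exists_constituent hχ h0
  have hc := Cfsg.Agent.OddOrderCharacters.Clifford.isCharacter_sub_irr hχ hψ hne
  obtain ⟨m, hm⟩ := classInner_isNat hχ (isIrr_isCharacter hψ)
  obtain ⟨k, hk⟩ := classInner_isNat hc hc
  have hm' : classInner ψ χ = m := by
    rw [← classInner_conj_symm, hm, Complex.conj_natCast]
  have h1 : (k : ℂ) = 3 - 2 * m := by
    rw [← hk, classInner_sub_left, classInner_sub_right, classInner_sub_right, h, hm, hm', classInner_irr_self hψ]
    ring
  have h2 : k + 2 * m = 3 := by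
    have : ((k + 2 * m : ℕ) : ℂ) = (3 : ℕ) := by
      push_cast
      rw [h1]
      ring
    exact_mod_cast this
  have hm1 : m ≠ 0 := by
    rintro rfl
    apply hne
    rw [hm]
    simp
  have hm2 : m = 1 := by omega
  have hk1 : k = 1 := by omega
  subst hm2 hk1
  have hirr : IsIrrCharacter G (χ - ψ) := isIrr_of_classInner_self hc (by rw [hk]; simp)
  refine ⟨ψ, χ - ψ, hψ, hirr, ?_, by simp⟩
  intro he
  have h3 : classInner (χ - ψ) ψ = 0 := by
    rw [classInner_sub_left, hm, classInner_irr_self hψ]
    simp
  rw [← he, classInner_irr_self hψ] at h3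
  exact one_ne_zero h3

end Cfsg.Agent.H113.NormTwoChar
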