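import Mathlib
import Cfsg.Prelude.Def_Characters
import Cfsg.Prelude.Def_ParabolicCharacters
import Cfsg.Agent.Characters.Core
import Cfsg.Agent.Characters.Brauer
set_option linter.all false

/-!
# Induction from the upper triangular subgroup of `GL₂` and `SL₂`

* `indFun_transversal`: the induced function by means of a transversal.
* `slRep`, `glRep`: the transversal of the upper triangular subgroup indexed by `Option F`.
* `glBorelEquiv`, `slBorelEquiv`: coordinates on the upper triangular subgroup.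
* `classInner_gl`, `classInner_sl`: inner products of functions induced from linear characters.
-/

set_option autoImplicit false

namespace Cfsg.Agent.H113.BorelInd

open Cfsg Cfsg.Agent.Characters.Core Cfsg.Agent.Characters.Brauer
open Matrix
open scoped ComplexConjugate MatrixGroups

section transversal

variable {G : Type*} [Group G]

/-- A family `r` such that each `g` lies in exactly one `r i H` gives a bijection. -/
theorem bijective_of_unique (H : Subgroup G) {ι : Type*} (r : ι → G)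
    (hr : ∀ g : G, ∃! i, (r i)⁻¹ * g ∈ H) :
    Function.Bijective (fun p : ι × H => r p.1 * (p.2 : G)) := by
  constructor
  · rintro ⟨i, h⟩ ⟨j, k⟩ e
    simp only at e
    obtain ⟨l, _, hl⟩ := hr (r i * h)
    have h1 : i = l := hl i (by simp)
    have h2 : j = l := hl j (by simp [e])
    subst h1
    subst h2
    obtain rfl : h = k := Subtype.ext (mul_left_cancel e)
    rfl
  · intro g
    obtain ⟨i, hi, _⟩ := hr g
    exact ⟨(i, ⟨_, hi⟩), by simp⟩

/-- The extension by zero of a class function on `H` is invariant under `H`. -/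
theorem extendByZero_conj (H : Subgroup G) {θ : H → ℂ} (hθ : IsClassFunction H θ) (h : H) (g : G) :
    extendByZero H θ ((h : G)⁻¹ * g * h) = extendByZero H θ g := by
  by_cases hg : g ∈ H
  · rw [extendByZero_mem H θ hg, extendByZero_mem H θ (H.mul_mem (H.mul_mem (H.inv_mem h.2) hg) h.2)]
    have := hθ ⟨g, hg⟩ h⁻¹
    rw [← this]
    congr 1
    ext
    simp
  · rw [extendByZero_notMem H θ hg, extendByZero_notMem]
    intro h1
    apply hg
    have := H.mul_mem (H.mul_mem h.2 h1) (H.inv_mem h.2)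
    simpa [mul_assoc] using this

/-- **The induced function by means of a transversal.** -/
theorem indFun_transversal [Fintype G] (H : Subgroup G) {ι : Type*} [Fintype ι] (r : ι → G)
    (hr : ∀ g : G, ∃! i, (r i)⁻¹ * g ∈ H) {θ : H → ℂ} (hθ : IsClassFunction H θ) (g : G) :
    indFun H θ g = ∑ i, extendByZero H θ ((r i)⁻¹ * g * r i) := by
  classical
  have : Fintype H := Fintype.ofFinite H
  rw [Cfsg.Agent.Characters.Brauer.indFun_apply]
  have hb := bijective_of_unique H r hr
  rw [← hb.sum_comp (fun x => extendByZero H θ (x⁻¹ * g * x)), Fintype.sum_prod_type]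
  have h1 : ∀ i, ∑ h : H, extendByZero H θ ((r i * (h : G))⁻¹ * g * (r i * (h : G))) =
      (Nat.card H : ℂ) * extendByZero H θ ((r i)⁻¹ * g * r i) := by
    intro i
    rw [Finset.sum_congr rfl (g := fun _ => extendByZero H θ ((r i)⁻¹ * g * r i))]
    · rw [Finset.sum_const, Finset.card_univ, nsmul_eq_mul, Nat.card_eq_fintype_card]
    · intro h _
      rw [← extendByZero_conj H hθ h ((r i)⁻¹ * g * r i)]
      congr 1
      group
  simp only [h1]
  rw [← Finset.mul_sum, ← mul_assoc, inv_mul_cancel₀, one_mul]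
  exact_mod_cast (Nat.card_pos (α := H)).ne'

end transversal

section matrices

variable {F : Type*} [Field F]

/-- Representatives of the cosets of the upper triangular subgroup. -/
def slRep : Option F → SpecialLinearGroup (Fin 2) F
  | none => 1
  | some t => ⟨!![t, -1; 1, 0], by simp [Matrix.det_fin_two]⟩

/-- Representatives of the cosets of the upper triangular subgroup. -/
def glRep (o : Option F) : GeneralLinearGroup (Fin 2) F := SpecialLinearGroup.toGL (slRep o)

theorem mem_gl {g : GeneralLinearGroup (Fin 2) F} :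
    g ∈ upperTriangularGL 2 F ↔ (g : Matrix (Fin 2) (Fin 2) F) 1 0 = 0 := by
  constructor
  · intro h
    exact h (by decide : id (0 : Fin 2) < id 1)
  · intro h i j hij
    fin_cases i <;> fin_cases j <;> simp_all

theorem mem_sl {g : SpecialLinearGroup (Fin 2) F} :
    g ∈ (upperTriangularGL 2 F).comap SpecialLinearGroup.toGL ↔ (g : Matrix (Fin 2) (Fin 2) F) 1 0 = 0 := by
  rw [Subgroup.mem_comap, mem_gl]
  rfl

theorem glRep_some_inv (t : F) : (((glRep (some t))⁻¹ : GeneralLinearGroup (Fin 2) F) : Matrix (Fin 2) (Fin 2) F) =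
    !![0, 1; -1, t] := by
  rw [Matrix.coe_units_inv, Matrix.inv_def]
  have : ((glRep (some t) : GeneralLinearGroup (Fin 2) F) : Matrix (Fin 2) (Fin 2) F) = !![t, -1; 1, 0] := rfl
  rw [this, Matrix.adjugate_fin_two, Matrix.det_fin_two]
  ext i j
  fin_cases i <;> fin_cases j <;> simp

theorem glRep_some (t : F) : ((glRep (some t) : GeneralLinearGroup (Fin 2) F) : Matrix (Fin 2) (Fin 2) F) =
    !![t, -1; 1, 0] := rfl

theorem slRep_some (t : F) : ((slRep (some t) : SpecialLinearGroup (Fin 2) F) : Matrix (Fin 2) (Fin 2) F) =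
    !![t, -1; 1, 0] := rfl

theorem glRep_none : (glRep none : GeneralLinearGroup (Fin 2) F) = 1 := by
  simp [glRep, slRep]

theorem slRep_none : (slRep none : SpecialLinearGroup (Fin 2) F) = 1 := rfl

/-- The matrix of the conjugate by a representative. -/
theorem conj_eq (g : Matrix (Fin 2) (Fin 2) F) (t : F) :
    !![0, 1; -1, t] * g * !![t, -1; 1, 0] =
      !![g 1 0 * t + g 1 1, -g 1 0; t * (g 1 0 * t + g 1 1) - (g 0 0 * t + g 0 1), g 0 0 - t * g 1 0] := by
  conv_lhs => rw [Matrix.eta_fin_two g]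
  rw [Matrix.mul_fin_two, Matrix.mul_fin_two]
  ext i j
  fin_cases i <;> fin_cases j <;> simp
  all_goals ring

theorem gl_conj (g : GeneralLinearGroup (Fin 2) F) (t : F) :
    (((glRep (some t))⁻¹ * g * glRep (some t) : GeneralLinearGroup (Fin 2) F) : Matrix (Fin 2) (Fin 2) F) =
      !![(g : Matrix (Fin 2) (Fin 2) F) 1 0 * t + (g : Matrix (Fin 2) (Fin 2) F) 1 1, -(g : Matrix (Fin 2) (Fin 2) F) 1 0;
        t * ((g : Matrix (Fin 2) (Fin 2) F) 1 0 * t + (g : Matrix (Fin 2) (Fin 2) F) 1 1) -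
          ((g : Matrix (Fin 2) (Fin 2) F) 0 0 * t + (g : Matrix (Fin 2) (Fin 2) F) 0 1),
        (g : Matrix (Fin 2) (Fin 2) F) 0 0 - t * (g : Matrix (Fin 2) (Fin 2) F) 1 0] := by
  rw [Units.val_mul, Units.val_mul, glRep_some_inv, glRep_some, conj_eq]

theorem sl_conj (g : SpecialLinearGroup (Fin 2) F) (t : F) :
    (((slRep (some t))⁻¹ * g * slRep (some t) : SpecialLinearGroup (Fin 2) F) : Matrix (Fin 2) (Fin 2) F) =
      !![(g : Matrix (Fin 2) (Fin 2) F) 1 0 * t + (g : Matrix (Fin 2) (Fin 2) F) 1 1, -(g : Matrix (Fin 2) (Fin 2) F) 1 0;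
        t * ((g : Matrix (Fin 2) (Fin 2) F) 1 0 * t + (g : Matrix (Fin 2) (Fin 2) F) 1 1) -
          ((g : Matrix (Fin 2) (Fin 2) F) 0 0 * t + (g : Matrix (Fin 2) (Fin 2) F) 0 1),
        (g : Matrix (Fin 2) (Fin 2) F) 0 0 - t * (g : Matrix (Fin 2) (Fin 2) F) 1 0] := by
  have := gl_conj (SpecialLinearGroup.toGL g) t
  rw [glRep, ← map_inv, ← map_mul, ← map_mul] at this
  exact this

theorem glRep_unique (g : GeneralLinearGroup (Fin 2) F) :
    ∃! o : Option F, (glRep o)⁻¹ * g ∈ upperTriangularGL 2 F := by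
  have hg : (g : Matrix (Fin 2) (Fin 2) F) 0 0 * (g : Matrix (Fin 2) (Fin 2) F) 1 1 -
      (g : Matrix (Fin 2) (Fin 2) F) 0 1 * (g : Matrix (Fin 2) (Fin 2) F) 1 0 ≠ 0 := by
    rw [← Matrix.det_fin_two]
    exact ((Matrix.isUnit_iff_isUnit_det _).1 g.isUnit).ne_zero
  have h0 : (glRep none)⁻¹ * g ∈ upperTriangularGL 2 F ↔ (g : Matrix (Fin 2) (Fin 2) F) 1 0 = 0 := by
    rw [glRep_none, inv_one, one_mul, mem_gl]
  have h1 : ∀ t : F, (glRep (some t))⁻¹ * g ∈ upperTriangularGL 2 F ↔
      t * (g : Matrix (Fin 2) (Fin 2) F) 1 0 = (g : Matrix (Fin 2) (Fin 2) F) 0 0 := by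
    intro t
    rw [mem_gl, Units.val_mul, glRep_some_inv, ← sub_eq_zero (a := t * _)]
    have : (!![0, 1; -1, t] * (g : Matrix (Fin 2) (Fin 2) F)) 1 0 =
        t * (g : Matrix (Fin 2) (Fin 2) F) 1 0 - (g : Matrix (Fin 2) (Fin 2) F) 0 0 := by
      simp [Matrix.mul_apply, Fin.sum_univ_two]
      ring
    rw [this]
  by_cases h : (g : Matrix (Fin 2) (Fin 2) F) 1 0 = 0
  · refine ⟨none, h0.2 h, ?_⟩
    rintro (_ | t) ht
    · rfl
    · rw [h1, h, mul_zero] at ht
      rw [h, ← ht] at hg
      simp at hg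
  · refine ⟨some ((g : Matrix (Fin 2) (Fin 2) F) 0 0 / (g : Matrix (Fin 2) (Fin 2) F) 1 0), ?_, ?_⟩
    · simp only
      rw [h1, div_mul_cancel₀ _ h]
    · rintro (_ | t) ht
      · exact absurd (h0.1 ht) h
      · rw [h1] at ht
        rw [← ht, mul_div_cancel_right₀ _ h]

theorem slRep_unique (g : SpecialLinearGroup (Fin 2) F) :
    ∃! o : Option F, (slRep o)⁻¹ * g ∈ (upperTriangularGL 2 F).comap SpecialLinearGroup.toGL := by
  have := glRep_unique (SpecialLinearGroup.toGL g)
  simpa only [glRep, ← map_inv, ← map_mul, ← Subgroup.mem_comap] using this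

end matrices

section mulchar

variable {F : Type*} [Field F] [Fintype F] [DecidableEq F]

theorem sum_units_eq_sum (f : F → ℂ) (h0 : f 0 = 0) : ∑ x : Fˣ, f x = ∑ x : F, f x := by
  rw [← Finset.sum_erase Finset.univ (a := (0 : F)) h0]
  refine Finset.sum_bij (fun x _ => (x : F)) (fun x _ => ?_) (fun x _ y _ h => Units.ext h) (fun y hy => ?_)
    (fun _ _ => rfl)
  · simp
  · exact ⟨Units.mk0 y (Finset.ne_of_mem_erase hy), Finset.mem_univ _, rfl⟩

/-- Orthogonality of multiplicative characters. -/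
theorem sum_units_mul_conj (α β : MulChar F ℂ) [Decidable (α = β)] :
    ∑ x : Fˣ, α x * conj (β x) = if α = β then ((Fintype.card F : ℂ) - 1) else 0 := by
  have h1 : ∀ x : Fˣ, α x * conj (β x) = (α * β⁻¹) (x : F) := by
    intro x
    rw [MulChar.mul_apply, ← MulChar.star_apply']
    rfl
  rw [Finset.sum_congr rfl (fun x _ => h1 x), sum_units_eq_sum (fun x => (α * β⁻¹) x) (MulChar.map_zero _)]
  split_ifs with h
  · rw [h, mul_inv_cancel, MulChar.sum_one_eq_card_units, Fintype.card_units, Nat.cast_sub Fintype.card_pos,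
      Nat.cast_one]
  · apply MulChar.sum_eq_zero_of_ne_one
    intro h1
    exact h (mul_inv_eq_one.1 h1)

end mulchar

section linear

variable {F : Type*} [Field F]

/-- The linear character of the upper triangular subgroup of `GL₂` given by a pair of multiplicative characters. -/
noncomputable def glLin (α β : MulChar F ℂ) : ↥(upperTriangularGL 2 F) →* ℂ where
  toFun b := α (((b : GeneralLinearGroup (Fin 2) F) : Matrix (Fin 2) (Fin 2) F) 0 0) *
    β (((b : GeneralLinearGroup (Fin 2) F) : Matrix (Fin 2) (Fin 2) F) 1 1)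
  map_one' := by simp
  map_mul' a b := by
    have ha := mem_gl.1 a.2
    have hb := mem_gl.1 b.2
    have h0 : (((a * b : ↥(upperTriangularGL 2 F)) : GeneralLinearGroup (Fin 2) F) : Matrix (Fin 2) (Fin 2) F) 0 0 =
        ((a : GeneralLinearGroup (Fin 2) F) : Matrix (Fin 2) (Fin 2) F) 0 0 *
        ((b : GeneralLinearGroup (Fin 2) F) : Matrix (Fin 2) (Fin 2) F) 0 0 := by
      simp [Matrix.mul_apply, Fin.sum_univ_two, hb]
    have h1 : (((a * b : ↥(upperTriangularGL 2 F)) : GeneralLinearGroup (Fin 2) F) : Matrix (Fin 2) (Fin 2) F) 1 1 =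
        ((a : GeneralLinearGroup (Fin 2) F) : Matrix (Fin 2) (Fin 2) F) 1 1 *
        ((b : GeneralLinearGroup (Fin 2) F) : Matrix (Fin 2) (Fin 2) F) 1 1 := by
      simp [Matrix.mul_apply, Fin.sum_univ_two, ha]
    rw [h0, h1, map_mul, map_mul]
    ring

theorem glLin_apply (α β : MulChar F ℂ) (b : ↥(upperTriangularGL 2 F)) :
    glLin α β b = α (((b : GeneralLinearGroup (Fin 2) F) : Matrix (Fin 2) (Fin 2) F) 0 0) *
    β (((b : GeneralLinearGroup (Fin 2) F) : Matrix (Fin 2) (Fin 2) F) 1 1) := rfl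

/-- The upper triangular subgroup of `SL₂`. -/
abbrev slB (F : Type*) [Field F] : Subgroup (SpecialLinearGroup (Fin 2) F) :=
  (upperTriangularGL 2 F).comap SpecialLinearGroup.toGL

/-- The linear character of the upper triangular subgroup of `SL₂` given by a multiplicative character. -/
noncomputable def slLin (α : MulChar F ℂ) : ↥(slB F) →* ℂ :=
  (glLin α 1).comp (SpecialLinearGroup.toGL.subgroupComap (upperTriangularGL 2 F))

theorem det_sl {g : SpecialLinearGroup (Fin 2) F} (hg : (g : Matrix (Fin 2) (Fin 2) F) 1 0 = 0) :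
    (g : Matrix (Fin 2) (Fin 2) F) 0 0 * (g : Matrix (Fin 2) (Fin 2) F) 1 1 = 1 := by
  have := g.2
  rw [Matrix.det_fin_two] at this
  have h1 : g.1 1 0 = 0 := hg
  rw [h1, mul_zero, sub_zero] at this
  exact this

theorem slLin_apply (α : MulChar F ℂ) (b : ↥(slB F)) :
    slLin α b = α (((b : SpecialLinearGroup (Fin 2) F) : Matrix (Fin 2) (Fin 2) F) 0 0) := by
  have h0 := det_sl (mem_sl.1 b.2)
  have h1 : IsUnit (((b : SpecialLinearGroup (Fin 2) F) : Matrix (Fin 2) (Fin 2) F) 1 1) :=
    isUnit_iff_ne_zero.2 (right_ne_zero_of_mul_eq_one h0)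
  have h2 : slLin α b = α (((b : SpecialLinearGroup (Fin 2) F) : Matrix (Fin 2) (Fin 2) F) 0 0) *
    (1 : MulChar F ℂ) (((b : SpecialLinearGroup (Fin 2) F) : Matrix (Fin 2) (Fin 2) F) 1 1) := rfl
  rw [h2, MulChar.one_apply h1, mul_one]

/-- A homomorphism to the complex numbers is a class function. -/
theorem isClassFunction_hom {H : Type*} [Group H] (f : H →* ℂ) : IsClassFunction H (fun h => f h) := by
  intro g h
  change f (h * g * h⁻¹) = f g
  rw [map_mul, map_mul, mul_comm (f h), mul_assoc, ← map_mul, mul_inv_cancel, map_one, mul_one]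

end linear

section values

variable {F : Type*} [Field F] [Fintype F] [DecidableEq F]

omit [Fintype F] in
theorem extend_gl (α β : MulChar F ℂ) (g : GeneralLinearGroup (Fin 2) F) :
    extendByZero (upperTriangularGL 2 F) (fun b => glLin α β b) g =
      if (g : Matrix (Fin 2) (Fin 2) F) 1 0 = 0 then
        α ((g : Matrix (Fin 2) (Fin 2) F) 0 0) * β ((g : Matrix (Fin 2) (Fin 2) F) 1 1) else 0 := by
  split_ifs with h
  · rw [extendByZero_mem _ _ (mem_gl.2 h), glLin_apply]
  · rw [extendByZero_notMem _ _ (fun h1 => h (mem_gl.1 h1))]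

omit [Fintype F] in
theorem extend_sl (α : MulChar F ℂ) (g : SpecialLinearGroup (Fin 2) F) :
    extendByZero (slB F) (fun b => slLin α b) g =
      if (g : Matrix (Fin 2) (Fin 2) F) 1 0 = 0 then α ((g : Matrix (Fin 2) (Fin 2) F) 0 0) else 0 := by
  split_ifs with h
  · rw [extendByZero_mem _ _ (mem_sl.2 h), slLin_apply]
  · rw [extendByZero_notMem _ _ (fun h1 => h (mem_sl.1 h1))]

/-- **Values of the induced characters of `GL₂`.** -/
theorem indFun_gl (α β : MulChar F ℂ) (g : GeneralLinearGroup (Fin 2) F) :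
    indFun (upperTriangularGL 2 F) (fun b => glLin α β b) g =
      (if (g : Matrix (Fin 2) (Fin 2) F) 1 0 = 0 then
        α ((g : Matrix (Fin 2) (Fin 2) F) 0 0) * β ((g : Matrix (Fin 2) (Fin 2) F) 1 1) else 0) +
      ∑ t : F, if t * ((g : Matrix (Fin 2) (Fin 2) F) 1 0 * t + (g : Matrix (Fin 2) (Fin 2) F) 1 1) =
          (g : Matrix (Fin 2) (Fin 2) F) 0 0 * t + (g : Matrix (Fin 2) (Fin 2) F) 0 1 then
        α ((g : Matrix (Fin 2) (Fin 2) F) 1 0 * t + (g : Matrix (Fin 2) (Fin 2) F) 1 1) *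
        β ((g : Matrix (Fin 2) (Fin 2) F) 0 0 - t * (g : Matrix (Fin 2) (Fin 2) F) 1 0) else 0 := by
  rw [indFun_transversal _ glRep glRep_unique (isClassFunction_hom (glLin α β)), Fintype.sum_option]
  congr 1
  · rw [extend_gl, glRep_none, inv_one, one_mul, mul_one]
  · refine Finset.sum_congr rfl fun t _ => ?_
    rw [extend_gl, gl_conj]
    simp [sub_eq_zero]

/-- **Values of the induced characters of `SL₂`.** -/
theorem indFun_sl (α : MulChar F ℂ) (g : SpecialLinearGroup (Fin 2) F) :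
    indFun (slB F) (fun b => slLin α b) g =
      (if (g : Matrix (Fin 2) (Fin 2) F) 1 0 = 0 then α ((g : Matrix (Fin 2) (Fin 2) F) 0 0) else 0) +
      ∑ t : F, if t * ((g : Matrix (Fin 2) (Fin 2) F) 1 0 * t + (g : Matrix (Fin 2) (Fin 2) F) 1 1) =
          (g : Matrix (Fin 2) (Fin 2) F) 0 0 * t + (g : Matrix (Fin 2) (Fin 2) F) 0 1 then
        α ((g : Matrix (Fin 2) (Fin 2) F) 1 0 * t + (g : Matrix (Fin 2) (Fin 2) F) 1 1) else 0 := by
  rw [indFun_transversal _ slRep slRep_unique (isClassFunction_hom (slLin α)), Fintype.sum_option]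
  congr 1
  · rw [extend_sl, slRep_none, inv_one, one_mul, mul_one]
  · refine Finset.sum_congr rfl fun t _ => ?_
    rw [extend_sl, sl_conj]
    simp [sub_eq_zero]

/-- The restriction to `SL₂` of an induced character of `GL₂`. -/
theorem indFun_gl_toGL (α : MulChar F ℂ) (g : SpecialLinearGroup (Fin 2) F) :
    indFun (upperTriangularGL 2 F) (fun b => glLin α 1 b) (SpecialLinearGroup.toGL g) =
      indFun (slB F) (fun b => slLin α b) g := by
  rw [indFun_gl, indFun_sl]
  have hd : (g : Matrix (Fin 2) (Fin 2) F) 0 0 * (g : Matrix (Fin 2) (Fin 2) F) 1 1 -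
      (g : Matrix (Fin 2) (Fin 2) F) 0 1 * (g : Matrix (Fin 2) (Fin 2) F) 1 0 = 1 := by
    have := g.2
    rw [Matrix.det_fin_two] at this
    exact this
  congr 1
  · change (if (g : Matrix (Fin 2) (Fin 2) F) 1 0 = 0 then α ((g : Matrix (Fin 2) (Fin 2) F) 0 0) *
        (1 : MulChar F ℂ) ((g : Matrix (Fin 2) (Fin 2) F) 1 1) else 0) = _
    split_ifs with h
    · rw [h, mul_zero, sub_zero] at hd
      rw [MulChar.one_apply (isUnit_iff_ne_zero.2 (right_ne_zero_of_mul_eq_one hd)), mul_one]
    · rfl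
  · refine Finset.sum_congr rfl fun t _ => ?_
    change (if t * ((g : Matrix (Fin 2) (Fin 2) F) 1 0 * t + (g : Matrix (Fin 2) (Fin 2) F) 1 1) =
          (g : Matrix (Fin 2) (Fin 2) F) 0 0 * t + (g : Matrix (Fin 2) (Fin 2) F) 0 1 then
        α ((g : Matrix (Fin 2) (Fin 2) F) 1 0 * t + (g : Matrix (Fin 2) (Fin 2) F) 1 1) *
        (1 : MulChar F ℂ) ((g : Matrix (Fin 2) (Fin 2) F) 0 0 - t * (g : Matrix (Fin 2) (Fin 2) F) 1 0) else 0) = _
    split_ifs with h
    · have h1 : ((g : Matrix (Fin 2) (Fin 2) F) 0 0 - t * (g : Matrix (Fin 2) (Fin 2) F) 1 0) *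
          ((g : Matrix (Fin 2) (Fin 2) F) 1 0 * t + (g : Matrix (Fin 2) (Fin 2) F) 1 1) = 1 := by
        linear_combination hd - (g : Matrix (Fin 2) (Fin 2) F) 1 0 * h
      rw [MulChar.one_apply (isUnit_iff_ne_zero.2 (left_ne_zero_of_mul_eq_one h1)), mul_one]
    · rfl

end values

section coordinates

variable {F : Type*} [Field F]

theorem gl_diag_ne_zero {g : GeneralLinearGroup (Fin 2) F} (hg : (g : Matrix (Fin 2) (Fin 2) F) 1 0 = 0) :
    (g : Matrix (Fin 2) (Fin 2) F) 0 0 ≠ 0 ∧ (g : Matrix (Fin 2) (Fin 2) F) 1 1 ≠ 0 := by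
  have h : (g : Matrix (Fin 2) (Fin 2) F) 0 0 * (g : Matrix (Fin 2) (Fin 2) F) 1 1 -
      (g : Matrix (Fin 2) (Fin 2) F) 0 1 * (g : Matrix (Fin 2) (Fin 2) F) 1 0 ≠ 0 := by
    rw [← Matrix.det_fin_two]
    exact ((Matrix.isUnit_iff_isUnit_det _).1 g.isUnit).ne_zero
  rw [hg, mul_zero, sub_zero] at h
  exact ⟨left_ne_zero_of_mul h, right_ne_zero_of_mul h⟩

/-- Coordinates on the upper triangular subgroup of `GL₂`. -/
noncomputable def glBorelEquiv : ↥(upperTriangularGL 2 F) ≃ Fˣ × Fˣ × F where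
  toFun b := (Units.mk0 _ (gl_diag_ne_zero (mem_gl.1 b.2)).1, Units.mk0 _ (gl_diag_ne_zero (mem_gl.1 b.2)).2,
    ((b : GeneralLinearGroup (Fin 2) F) : Matrix (Fin 2) (Fin 2) F) 0 1)
  invFun p := ⟨GeneralLinearGroup.mkOfDetNeZero !![(p.1 : F), p.2.2; 0, (p.2.1 : F)] (by
    rw [Matrix.det_fin_two]; simp), by
    rw [mem_gl]; rfl⟩
  left_inv b := by
    apply Subtype.ext
    apply Units.ext
    have := mem_gl.1 b.2
    ext i j
    fin_cases i <;> fin_cases j <;> simp [GeneralLinearGroup.mkOfDetNeZero, this]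
  right_inv p := by
    obtain ⟨x, z, y⟩ := p
    ext <;> simp [GeneralLinearGroup.mkOfDetNeZero]

/-- Coordinates on the upper triangular subgroup of `SL₂`. -/
noncomputable def slBorelEquiv : ↥(slB F) ≃ Fˣ × F where
  toFun b := (Units.mk0 _ (left_ne_zero_of_mul_eq_one (det_sl (mem_sl.1 b.2))),
    ((b : SpecialLinearGroup (Fin 2) F) : Matrix (Fin 2) (Fin 2) F) 0 1)
  invFun p := ⟨⟨!![(p.1 : F), p.2; 0, ((p.1⁻¹ : Fˣ) : F)], by
    rw [Matrix.det_fin_two]; simp⟩, mem_sl.2 rfl⟩
  left_inv b := by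
    apply Subtype.ext
    apply Subtype.ext
    have h1 := mem_sl.1 b.2
    have h2 := det_sl h1
    have h3 := eq_inv_of_mul_eq_one_right h2
    ext i j
    fin_cases i <;> fin_cases j <;> simp
    · exact h1.symm
    · exact h3.symm
  right_inv p := by
    obtain ⟨x, y⟩ := p
    ext <;> simp

end coordinates

section inner

variable {F : Type*} [Field F] [Fintype F] [DecidableEq F]

theorem sum_gl (f : F → F → F → ℂ) [Fintype ↥(upperTriangularGL 2 F)] :
    ∑ b : ↥(upperTriangularGL 2 F), f (((b : GeneralLinearGroup (Fin 2) F) : Matrix (Fin 2) (Fin 2) F) 0 0)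
      (((b : GeneralLinearGroup (Fin 2) F) : Matrix (Fin 2) (Fin 2) F) 1 1)
      (((b : GeneralLinearGroup (Fin 2) F) : Matrix (Fin 2) (Fin 2) F) 0 1) =
      ∑ x : Fˣ, ∑ z : Fˣ, ∑ y : F, f x z y := by
  rw [← glBorelEquiv.symm.sum_comp, Fintype.sum_prod_type]
  simp only [Fintype.sum_prod_type]
  rfl

theorem sum_sl (f : F → F → F → ℂ) [Fintype ↥(slB F)] :
    ∑ b : ↥(slB F), f (((b : SpecialLinearGroup (Fin 2) F) : Matrix (Fin 2) (Fin 2) F) 0 0)
      (((b : SpecialLinearGroup (Fin 2) F) : Matrix (Fin 2) (Fin 2) F) 1 1)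
      (((b : SpecialLinearGroup (Fin 2) F) : Matrix (Fin 2) (Fin 2) F) 0 1) =
      ∑ x : Fˣ, ∑ y : F, f x ((x⁻¹ : Fˣ) : F) y := by
  rw [← slBorelEquiv.symm.sum_comp, Fintype.sum_prod_type]
  rfl

omit [DecidableEq F] in
theorem card_gl_borel : Nat.card ↥(upperTriangularGL 2 F) =
    (Fintype.card F - 1) * ((Fintype.card F - 1) * Fintype.card F) := by
  rw [Nat.card_congr glBorelEquiv, Nat.card_prod, Nat.card_prod, Nat.card_units, Nat.card_eq_fintype_card]

omit [DecidableEq F] in
theorem card_sl_borel : Nat.card ↥(slB F) = (Fintype.card F - 1) * Fintype.card F := by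
  rw [Nat.card_congr slBorelEquiv, Nat.card_prod, Nat.card_units, Nat.card_eq_fintype_card]

omit [DecidableEq F] [Fintype F] [Field F] in
theorem arith_gl {c q : ℂ} (hc : c ≠ 0) (hq : q ≠ 0) (P Q R S : Prop) [Decidable P] [Decidable Q] [Decidable R]
    [Decidable S] [Decidable (P ∧ Q)] [Decidable (R ∧ S)] :
    (c * (c * q))⁻¹ * (q * ((if P then c else 0) * (if Q then c else 0) +
      (if R then c else 0) * (if S then c else 0))) = (if P ∧ Q then 1 else 0) + (if R ∧ S then 1 else 0) := by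
  by_cases hP : P <;> by_cases hQ : Q <;> by_cases hR : R <;> by_cases hS : S <;> simp [hP, hQ, hR, hS] <;>
    field_simp

omit [DecidableEq F] [Fintype F] [Field F] in
theorem arith_sl {c q : ℂ} (hc : c ≠ 0) (hq : q ≠ 0) (P Q : Prop) [Decidable P] [Decidable Q] :
    (c * q)⁻¹ * (q * ((if P then c else 0) + (if Q then c else 0))) = (if P then 1 else 0) + (if Q then 1 else 0) := by
  by_cases hP : P <;> by_cases hQ : Q <;> simp [hP, hQ] <;> field_simp

/-- **Inner products of the characters of `GL₂` induced from the Borel subgroup.** -/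
theorem classInner_gl (α β α' β' : MulChar F ℂ) [Decidable (α = α' ∧ β = β')] [Decidable (α = β' ∧ β = α')] :
    classInner (indFun (upperTriangularGL 2 F) (fun b => glLin α β b))
      (indFun (upperTriangularGL 2 F) (fun b => glLin α' β' b)) =
      (if α = α' ∧ β = β' then 1 else 0) + (if α = β' ∧ β = α' then 1 else 0) := by
  classical
  rw [Cfsg.Agent.Characters.Brauer.classInner_indFun (upperTriangularGL 2 F) inferInstance _ _
    (indFun_isClassFunction _ _), classInner_def]
  have hq : (Fintype.card F : ℂ) ≠ 0 := by exact_mod_cast Fintype.card_ne_zero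
  have hq1 : (Fintype.card F : ℂ) - 1 ≠ 0 := by
    have := Fintype.one_lt_card (α := F)
    rw [sub_ne_zero]
    exact_mod_cast this.ne'
  let f : F → F → F → ℂ := fun x z y => α x * β z *
    conj (α' x * β' z + ∑ t : F, if t * z = x * t + y then α' z * β' x else 0)
  have h1 : ∀ b : ↥(upperTriangularGL 2 F), glLin α β b *
      conj (indFun (upperTriangularGL 2 F) (fun b => glLin α' β' b) (b : GeneralLinearGroup (Fin 2) F)) =
      f (((b : GeneralLinearGroup (Fin 2) F) : Matrix (Fin 2) (Fin 2) F) 0 0)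
      (((b : GeneralLinearGroup (Fin 2) F) : Matrix (Fin 2) (Fin 2) F) 1 1)
      (((b : GeneralLinearGroup (Fin 2) F) : Matrix (Fin 2) (Fin 2) F) 0 1) := by
    intro b
    have hb := mem_gl.1 b.2
    rw [indFun_gl, glLin_apply]
    simp only [hb, if_true, zero_mul, mul_zero, zero_add, sub_zero, f]
  rw [Finset.sum_congr rfl (fun b _ => h1 b), sum_gl f]
  have h2 : ∀ x z : Fˣ, ∑ y : F, α x * β z * conj (α' x * β' z + ∑ t : F,
      if t * (z : F) = x * t + y then α' z * β' x else 0) =
      (Fintype.card F : ℂ) * (α x * conj (α' x) * (β z * conj (β' z)) + α x * conj (β' x) * (β z * conj (α' z))) := by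
    intro x z
    rw [← Finset.mul_sum, ← map_sum, Finset.sum_add_distrib, Finset.sum_comm]
    have h3 : ∀ t : F, ∑ y : F, (if t * (z : F) = x * t + y then α' (z : F) * β' (x : F) else 0) = α' z * β' x := by
      intro t
      rw [Finset.sum_eq_single (t * (z : F) - x * t)]
      · simp
      · intro y _ hy
        rw [if_neg]
        intro h
        apply hy
        rw [h]
        ring
      · simp
    rw [Finset.sum_congr rfl (fun t _ => h3 t), Finset.sum_const, Finset.sum_const, Finset.card_univ,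
      nsmul_eq_mul, nsmul_eq_mul, map_add, map_mul, map_mul, map_mul, map_mul, Complex.conj_natCast]
    ring
  rw [Finset.sum_congr rfl (fun x _ => Finset.sum_congr rfl (fun z _ => h2 x z))]
  have h4 : ∑ x : Fˣ, ∑ z : Fˣ, (Fintype.card F : ℂ) *
      (α x * conj (α' x) * (β z * conj (β' z)) + α x * conj (β' x) * (β z * conj (α' z))) =
      (Fintype.card F : ℂ) * ((∑ x : Fˣ, α x * conj (α' x)) * (∑ z : Fˣ, β z * conj (β' z)) +
        (∑ x : Fˣ, α x * conj (β' x)) * (∑ z : Fˣ, β z * conj (α' z))) := by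
    rw [Finset.sum_mul_sum, Finset.sum_mul_sum, ← Finset.sum_add_distrib, Finset.mul_sum]
    refine Finset.sum_congr rfl fun x _ => ?_
    rw [← Finset.sum_add_distrib, Finset.mul_sum]
  rw [h4, sum_units_mul_conj, sum_units_mul_conj, sum_units_mul_conj, sum_units_mul_conj, card_gl_borel]
  have h5 : (((Fintype.card F - 1) * ((Fintype.card F - 1) * Fintype.card F) : ℕ) : ℂ) =
      ((Fintype.card F : ℂ) - 1) * (((Fintype.card F : ℂ) - 1) * (Fintype.card F : ℂ)) := by
    push_cast [Nat.cast_sub (Fintype.card_pos (α := F))]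
    ring
  rw [h5]
  exact arith_gl hq1 hq _ _ _ _

/-- **Inner products of the characters of `SL₂` induced from the Borel subgroup.** -/
theorem classInner_sl (α α' : MulChar F ℂ) [Decidable (α = α')] [Decidable (α = α'⁻¹)] :
    classInner (indFun (slB F) (fun b => slLin α b)) (indFun (slB F) (fun b => slLin α' b)) =
      (if α = α' then 1 else 0) + (if α = α'⁻¹ then 1 else 0) := by
  classical
  rw [Cfsg.Agent.Characters.Brauer.classInner_indFun (slB F) inferInstance _ _
    (indFun_isClassFunction _ _), classInner_def]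
  have hq : (Fintype.card F : ℂ) ≠ 0 := by exact_mod_cast Fintype.card_ne_zero
  have hq1 : (Fintype.card F : ℂ) - 1 ≠ 0 := by
    have := Fintype.one_lt_card (α := F)
    rw [sub_ne_zero]
    exact_mod_cast this.ne'
  let f : F → F → F → ℂ := fun x z y => α x *
    conj (α' x + ∑ t : F, if t * z = x * t + y then α' z else 0)
  have h1 : ∀ b : ↥(slB F), slLin α b *
      conj (indFun (slB F) (fun b => slLin α' b) (b : SpecialLinearGroup (Fin 2) F)) =
      f (((b : SpecialLinearGroup (Fin 2) F) : Matrix (Fin 2) (Fin 2) F) 0 0)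
      (((b : SpecialLinearGroup (Fin 2) F) : Matrix (Fin 2) (Fin 2) F) 1 1)
      (((b : SpecialLinearGroup (Fin 2) F) : Matrix (Fin 2) (Fin 2) F) 0 1) := by
    intro b
    have hb := mem_sl.1 b.2
    rw [indFun_sl, slLin_apply]
    simp only [hb, if_true, zero_mul, zero_add, f]
  rw [Finset.sum_congr rfl (fun b _ => h1 b), sum_sl f]
  have h2 : ∀ x : Fˣ, ∑ y : F, α x * conj (α' x + ∑ t : F,
      if t * ((x⁻¹ : Fˣ) : F) = x * t + y then α' ((x⁻¹ : Fˣ) : F) else 0) =
      (Fintype.card F : ℂ) * (α x * conj (α' x) + α x * conj (α'⁻¹ x)) := by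
    intro x
    rw [← Finset.mul_sum, ← map_sum, Finset.sum_add_distrib, Finset.sum_comm]
    have h3 : ∀ t : F, ∑ y : F, (if t * ((x⁻¹ : Fˣ) : F) = x * t + y then α' ((x⁻¹ : Fˣ) : F) else 0) =
        α' ((x⁻¹ : Fˣ) : F) := by
      intro t
      rw [Finset.sum_eq_single (t * ((x⁻¹ : Fˣ) : F) - x * t)]
      · simp
      · intro y _ hy
        rw [if_neg]
        intro h
        apply hy
        rw [h]
        ring
      · simp
    rw [Finset.sum_congr rfl (fun t _ => h3 t), Finset.sum_const, Finset.sum_const, Finset.card_univ,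
      nsmul_eq_mul, nsmul_eq_mul, map_add, map_mul, map_mul, Complex.conj_natCast, MulChar.inv_apply', Units.val_inv_eq_inv_val]
    ring
  rw [Finset.sum_congr rfl (fun x _ => h2 x)]
  rw [← Finset.mul_sum, Finset.sum_add_distrib, sum_units_mul_conj, sum_units_mul_conj, card_sl_borel]
  have h5 : (((Fintype.card F - 1) * Fintype.card F : ℕ) : ℂ) =
      ((Fintype.card F : ℂ) - 1) * (Fintype.card F : ℂ) := by
    push_cast [Nat.cast_sub (Fintype.card_pos (α := F))]
    ring
  rw [h5]
  exact arith_sl hq1 hq _ _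

end inner

end Cfsg.Agent.H113.BorelInd
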